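import Mathlib
import Cfsg.Prelude.Def_KGroupFacts
import Cfsg.Agent.Helper96.StLift.Basic
import Cfsg.Agent.Helper96.StemBound
import Cfsg.Agent.Helper96.StemSLTwoA

/-!
# Schur multiplier of `PSU_n(q)` (S2089): generic definitions (block R)

* `NoStem G`: every finite stem extension of `G` is an isomorphism.
* `NoStemP G p`: no finite stem extension of `G` has a kernel of order `p`.
* `NoStemP' G p`: every finite stem extension of `G` whose kernel has order prime to `p` is an
  isomorphism.
* `plift τ p X`: the canonical lift of a `p`-subgroup `X` of `G` to a central extension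
  `τ : Γ →* G` (meant for a kernel of order prime to `p`): generated by the `p`-elements above `X`.
-/

set_option autoImplicit false

namespace Cfsg.Agent.Helper43.PsuM

universe u

/-- every finite stem extension of `G` is an isomorphism -/
def NoStem (G : Type u) [Group G] : Prop :=
  ∀ (Γ : Type u) [Group Γ] [Finite Γ] (τ : Γ →* G), Cfsg.IsStemExtension τ → τ.ker = ⊥

/-- no finite stem extension of `G` has a kernel of order `p` -/
def NoStemP (G : Type u) [Group G] (p : ℕ) : Prop :=
  ∀ (Γ : Type u) [Group Γ] [Finite Γ] (τ : Γ →* G), Cfsg.IsStemExtension τ →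
    Nat.card τ.ker = p → False

/-- every finite stem extension of `G` with kernel of order prime to `p` is an isomorphism -/
def NoStemP' (G : Type u) [Group G] (p : ℕ) : Prop :=
  ∀ (Γ : Type u) [Group Γ] [Finite Γ] (τ : Γ →* G), Cfsg.IsStemExtension τ →
    (Nat.card τ.ker).Coprime p → τ.ker = ⊥

variable {Γ G : Type*} [Group Γ] [Group G]

/-- the canonical lift of a `p`-subgroup `X` of `G`: the subgroup generated by the `p`-elements of
`Γ` lying above `X` -/
def plift (τ : Γ →* G) (p : ℕ) (X : Subgroup G) : Subgroup Γ :=
  Subgroup.closure {g | τ g ∈ X ∧ ∃ k : ℕ, g ^ p ^ k = 1}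

theorem plift_mono (τ : Γ →* G) (p : ℕ) {X Y : Subgroup G} (h : X ≤ Y) :
    plift τ p X ≤ plift τ p Y :=
  Subgroup.closure_mono fun _ hg => ⟨h hg.1, hg.2⟩

theorem plift_le_comap (τ : Γ →* G) (p : ℕ) (X : Subgroup G) : plift τ p X ≤ X.comap τ := by
  unfold plift
  rw [Subgroup.closure_le]
  exact fun _ hg => hg.1

end Cfsg.Agent.Helper43.PsuM
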