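import Mathlib
import Cfsg.Agent.Helper43.PsuM.RDefs

/-!
# S2089 block I-even: the model `SUe m σ` of `SU_{2m}(q)` and its Siegel parabolic (definitions)

`F` a field, `σ : F →+* F` (an involution in the applications).  `SUe m σ` is the group of matrices of
determinant one over `Fin m ⊕ Fin m` preserving the hermitian form with matrix `[[0, 1], [1, 0]]`:
`gᵀ * H * σ(g) = H`.

* `qE σ B = [[1, B], [0, 1]]` for `B ∈ SkewH σ` (`σ(B) + Bᵀ = 0`): the unipotent radical `Qsub` of the Siegel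
  parabolic;
* `iE σ A = [[A, 0], [0, σ(A⁻¹)ᵀ]]` for `A ∈ SL_m(F)`: the Levi subgroup `Ssub ≅ SL_m`, with root elements
  `xE σ i j a = iE σ (1 + a E_ij)`;
* `Tsub`: the diagonal matrices of `SUe m σ`; `USsub`: generated by the `xE σ i j a`, `i < j`;
  `Usub = Qsub ⊔ USsub`;
* `zE σ i c = qE σ (c E_ii)` (long root elements), `cE σ i j t = qE σ (t E_ij - σ(t) E_ji)` (short ones).
-/

set_option autoImplicit false

namespace Cfsg.Agent.Helper43.PsuM.Ev

open Matrix

variable {F : Type*} [Field F] {m : ℕ}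

/-- the matrix of the hyperbolic hermitian form -/
def Hm (m : ℕ) (F : Type*) [Field F] : Matrix (Fin m ⊕ Fin m) (Fin m ⊕ Fin m) F :=
  fromBlocks 0 1 1 0

/-- the unitarity condition -/
def IsU (σ : F →+* F) (M : Matrix (Fin m ⊕ Fin m) (Fin m ⊕ Fin m) F) : Prop :=
  Mᵀ * Hm m F * M.map σ = Hm m F

theorem isU_one (σ : F →+* F) : IsU σ (1 : Matrix (Fin m ⊕ Fin m) (Fin m ⊕ Fin m) F) := by
  unfold IsU
  rw [Matrix.transpose_one, Matrix.one_mul, Matrix.map_one σ (map_zero σ) (map_one σ), Matrix.mul_one]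

theorem isU_mul (σ : F →+* F) {M N : Matrix (Fin m ⊕ Fin m) (Fin m ⊕ Fin m) F} (hM : IsU σ M)
    (hN : IsU σ N) : IsU σ (M * N) := by
  unfold IsU at *
  rw [Matrix.transpose_mul, Matrix.map_mul]
  calc Nᵀ * Mᵀ * Hm m F * (M.map σ * N.map σ)
      = Nᵀ * (Mᵀ * Hm m F * M.map σ) * N.map σ := by simp only [Matrix.mul_assoc]
    _ = Hm m F := by rw [hM, hN]

theorem isU_inv (σ : F →+* F) {M N : Matrix (Fin m ⊕ Fin m) (Fin m ⊕ Fin m) F} (hM : IsU σ M)
    (hMN : M * N = 1) : IsU σ N := by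
  unfold IsU at *
  have h1 : Nᵀ * Mᵀ = 1 := by rw [← Matrix.transpose_mul, hMN, Matrix.transpose_one]
  have h2 : M.map σ * N.map σ = 1 := by
    rw [← Matrix.map_mul, hMN, Matrix.map_one σ (map_zero σ) (map_one σ)]
  calc Nᵀ * Hm m F * N.map σ = Nᵀ * (Mᵀ * Hm m F * M.map σ) * N.map σ := by rw [hM]
    _ = (Nᵀ * Mᵀ) * Hm m F * (M.map σ * N.map σ) := by simp only [Matrix.mul_assoc]
    _ = Hm m F := by rw [h1, h2, Matrix.one_mul, Matrix.mul_one]

/-- the special unitary group of the hyperbolic hermitian form on `F^m ⊕ F^m` -/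
def SUe (m : ℕ) (σ : F →+* F) : Subgroup (SpecialLinearGroup (Fin m ⊕ Fin m) F) where
  carrier := {g | IsU σ g.1}
  one_mem' := isU_one σ
  mul_mem' := fun {a b} ha hb => by
    change IsU σ (a.1 * b.1)
    exact isU_mul σ ha hb
  inv_mem' := fun {a} ha => by
    change IsU σ (a⁻¹).1
    apply isU_inv σ ha
    have h : (a * a⁻¹).1 = 1 := by rw [mul_inv_cancel]; rfl
    exact h

/-- the matrix of an element -/
abbrev mat {σ : F →+* F} (g : SUe m σ) : Matrix (Fin m ⊕ Fin m) (Fin m ⊕ Fin m) F := g.1.1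

theorem mat_mul {σ : F →+* F} (g h : SUe m σ) : mat (g * h) = mat g * mat h := rfl

theorem mat_one {σ : F →+* F} : mat (1 : SUe m σ) = 1 := rfl

theorem mat_injective {σ : F →+* F} : Function.Injective (mat : SUe m σ → _) :=
  fun _ _ h => Subtype.ext (Subtype.ext h)

theorem isU_mat {σ : F →+* F} (g : SUe m σ) : IsU σ (mat g) := g.2

/-- an element from a matrix satisfying the conditions (`1` if they fail) -/
noncomputable def ofMat (σ : F →+* F) (M : Matrix (Fin m ⊕ Fin m) (Fin m ⊕ Fin m) F) : SUe m σ :=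
  open Classical in
  if h : M.det = 1 ∧ IsU σ M then ⟨⟨M, h.1⟩, h.2⟩ else 1

theorem mat_ofMat (σ : F →+* F) {M : Matrix (Fin m ⊕ Fin m) (Fin m ⊕ Fin m) F} (hd : M.det = 1)
    (hU : IsU σ M) : mat (ofMat σ M) = M := by
  unfold ofMat
  rw [dif_pos ⟨hd, hU⟩]

/-- skew-hermitian matrices: `σ(B) + Bᵀ = 0` -/
def SkewH (m : ℕ) (σ : F →+* F) : AddSubgroup (Matrix (Fin m) (Fin m) F) where
  carrier := {B | B.map σ + Bᵀ = 0}
  zero_mem' := by
    change (0 : Matrix (Fin m) (Fin m) F).map σ + (0 : Matrix (Fin m) (Fin m) F)ᵀ = 0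
    rw [Matrix.map_zero σ (map_zero σ), Matrix.transpose_zero, add_zero]
  add_mem' := fun {a b} ha hb => by
    change (a + b).map σ + (a + b)ᵀ = 0
    have ha' : a.map σ + aᵀ = 0 := ha
    have hb' : b.map σ + bᵀ = 0 := hb
    rw [Matrix.map_add σ (map_add σ), Matrix.transpose_add]
    calc a.map σ + b.map σ + (aᵀ + bᵀ) = (a.map σ + aᵀ) + (b.map σ + bᵀ) := by abel
      _ = 0 := by rw [ha', hb', add_zero]
  neg_mem' := fun {a} ha => by
    change (-a).map σ + (-a)ᵀ = 0
    have ha' : a.map σ + aᵀ = 0 := ha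
    have h1 : (-a).map σ = -(a.map σ) := by
      ext i j; simp
    rw [h1, Matrix.transpose_neg, ← neg_add, ha', neg_zero]

/-- the matrix `[[1, B], [0, 1]]` -/
def qM (B : Matrix (Fin m) (Fin m) F) : Matrix (Fin m ⊕ Fin m) (Fin m ⊕ Fin m) F :=
  fromBlocks 1 B 0 1

/-- the element `[[1, B], [0, 1]]` (`1` if `B` is not skew-hermitian) -/
noncomputable def qE (σ : F →+* F) (B : Matrix (Fin m) (Fin m) F) : SUe m σ := ofMat σ (qM B)

/-- the matrix `[[A, 0], [0, D]]` -/
def iM (A D : Matrix (Fin m) (Fin m) F) : Matrix (Fin m ⊕ Fin m) (Fin m ⊕ Fin m) F :=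
  fromBlocks A 0 0 D

/-- the Levi element `[[A, 0], [0, σ(A⁻¹)ᵀ]]` for `A ∈ SL_m(F)` (as a function) -/
noncomputable def iE (σ : F →+* F) (A : SpecialLinearGroup (Fin m) F) : SUe m σ :=
  ofMat σ (iM A.1 ((A⁻¹).1.map σ)ᵀ)

/-- the diagonal element with entries `d i` on the first block and `σ (d i)⁻¹` on the second -/
noncomputable def tE (σ : F →+* F) (d : Fin m → F) : SUe m σ :=
  ofMat σ (iM (Matrix.diagonal d) (Matrix.diagonal fun i => (σ (d i))⁻¹))

/-- the unipotent radical of the Siegel parabolic -/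
def Qsub (m : ℕ) (σ : F →+* F) : Subgroup (SUe m σ) where
  carrier := {g | (mat g).toBlocks₁₁ = 1 ∧ (mat g).toBlocks₂₁ = 0 ∧ (mat g).toBlocks₂₂ = 1}
  one_mem' := by
    refine ⟨?_, ?_, ?_⟩ <;> ext i j <;> simp [mat_one, Matrix.toBlocks₁₁, Matrix.toBlocks₂₁,
      Matrix.toBlocks₂₂, Matrix.one_apply]
  mul_mem' := fun {a b} ha hb => by
    have ea := Matrix.fromBlocks_toBlocks (mat a)
    have eb := Matrix.fromBlocks_toBlocks (mat b)
    obtain ⟨a1, a2, a3⟩ := ha
    obtain ⟨b1, b2, b3⟩ := hb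
    rw [a1, a2, a3] at ea
    rw [b1, b2, b3] at eb
    have e : mat (a * b) = fromBlocks 1 ((mat b).toBlocks₁₂ + (mat a).toBlocks₁₂) 0 1 := by
      rw [mat_mul, ← ea, ← eb, Matrix.fromBlocks_multiply]
      simp
    refine ⟨?_, ?_, ?_⟩
    · change (mat (a * b)).toBlocks₁₁ = 1
      rw [e, Matrix.toBlocks_fromBlocks₁₁]
    · change (mat (a * b)).toBlocks₂₁ = 0
      rw [e, Matrix.toBlocks_fromBlocks₂₁]
    · change (mat (a * b)).toBlocks₂₂ = 1
      rw [e, Matrix.toBlocks_fromBlocks₂₂]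
  inv_mem' := fun {a} ha => by
    have ea := Matrix.fromBlocks_toBlocks (mat a)
    obtain ⟨a1, a2, a3⟩ := ha
    rw [a1, a2, a3] at ea
    have h1 : mat a * mat a⁻¹ = 1 := by rw [← mat_mul, mul_inv_cancel, mat_one]
    have h2 : mat a * fromBlocks 1 (-(mat a).toBlocks₁₂) 0 1 = 1 := by
      rw [← ea, Matrix.fromBlocks_multiply]
      simp
    have h3 : mat a⁻¹ = fromBlocks 1 (-(mat a).toBlocks₁₂) 0 1 := by
      have hinv : mat a⁻¹ * mat a = 1 := by rw [← mat_mul, inv_mul_cancel, mat_one]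
      calc mat a⁻¹ = mat a⁻¹ * (mat a * fromBlocks 1 (-(mat a).toBlocks₁₂) 0 1) := by
            rw [h2, Matrix.mul_one]
        _ = fromBlocks 1 (-(mat a).toBlocks₁₂) 0 1 := by
            rw [← Matrix.mul_assoc, hinv, Matrix.one_mul]
    refine ⟨?_, ?_, ?_⟩
    · change (mat a⁻¹).toBlocks₁₁ = 1
      rw [h3, Matrix.toBlocks_fromBlocks₁₁]
    · change (mat a⁻¹).toBlocks₂₁ = 0
      rw [h3, Matrix.toBlocks_fromBlocks₂₁]
    · change (mat a⁻¹).toBlocks₂₂ = 1
      rw [h3, Matrix.toBlocks_fromBlocks₂₂]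

/-- the diagonal subgroup -/
def Tsub (m : ℕ) (σ : F →+* F) : Subgroup (SUe m σ) where
  carrier := {g | ∀ a b, a ≠ b → mat g a b = 0}
  one_mem' := fun a b hab => by rw [mat_one, Matrix.one_apply_ne hab]
  mul_mem' := fun {x y} hx hy a b hab => by
    rw [mat_mul, Matrix.mul_apply]
    apply Finset.sum_eq_zero
    intro c _
    by_cases hac : a = c
    · subst hac
      rw [hy a b hab, mul_zero]
    · rw [hx a c hac, zero_mul]
  inv_mem' := fun {x} hx a b hab => by
    -- the inverse of a diagonal matrix is diagonal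
    have hd : mat x = Matrix.diagonal fun i => mat x i i := by
      ext i j
      by_cases hij : i = j
      · subst hij; simp
      · rw [hx i j hij, Matrix.diagonal_apply_ne _ hij]
    have h1 : mat x * mat x⁻¹ = 1 := by rw [← mat_mul, mul_inv_cancel, mat_one]
    have h2 := congrFun (congrFun h1 a) b
    rw [hd, Matrix.diagonal_mul, Matrix.one_apply_ne hab] at h2
    have h3 : mat x a a ≠ 0 := by
      intro h0
      have h4 := congrFun (congrFun h1 a) a
      rw [hd, Matrix.diagonal_mul, Matrix.one_apply_eq, h0, zero_mul] at h4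
      exact zero_ne_one h4
    exact (mul_eq_zero.mp h2).resolve_left h3

/-- the root element `iE σ (1 + a E_ij)` of the Levi subgroup (`1` if `i = j`) -/
noncomputable def xE (σ : F →+* F) (i j : Fin m) (a : F) : SUe m σ :=
  if h : i ≠ j then iE σ (SpecialLinearGroup.transvection h a) else 1

/-- the Levi subgroup `SL_m` -/
def Ssub (m : ℕ) (σ : F →+* F) : Subgroup (SUe m σ) := Subgroup.closure (Set.range (iE (m := m) σ))

/-- the unipotent radical of the Borel subgroup of the Levi subgroup: generated by the root elements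
`xE σ i j a`, `i < j` -/
def USsub (m : ℕ) (σ : F →+* F) : Subgroup (SUe m σ) :=
  Subgroup.closure {g | ∃ i j : Fin m, i < j ∧ ∃ a : F, g = xE σ i j a}

/-- the unipotent radical of the Borel subgroup -/
def Usub (m : ℕ) (σ : F →+* F) : Subgroup (SUe m σ) := Qsub m σ ⊔ USsub m σ

/-- the part of the torus centralising the root subgroup `{xE σ i j a}` -/
def Tij (σ : F →+* F) (i j : Fin m) : Subgroup (SUe m σ) :=
  Tsub m σ ⊓ Subgroup.centralizer (Set.range (xE σ i j))

/-- long root elements of `Qsub`: `[[1, c E_ii], [0, 1]]` (meant for `σ c + c = 0`) -/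
noncomputable def zE (σ : F →+* F) (i : Fin m) (c : F) : SUe m σ := qE σ (Matrix.single i i c)

/-- short root elements of `Qsub`: `[[1, t E_ij - σ(t) E_ji], [0, 1]]` (meant for `i ≠ j`) -/
noncomputable def cE (σ : F →+* F) (i j : Fin m) (t : F) : SUe m σ :=
  qE σ (Matrix.single i j t - Matrix.single j i (σ t))

/-- the long root subgroup -/
def Xl (σ : F →+* F) (i : Fin m) : Subgroup (SUe m σ) :=
  Subgroup.closure {g | ∃ c : F, σ c + c = 0 ∧ g = zE σ i c}

end Cfsg.Agent.Helper43.PsuM.Ev
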