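import Cfsg.Agent.Helper43.PsuM.EvDefs
import Cfsg.Agent.Helper61.PsuM_AMAT
import Cfsg.Agent.Helper61.PsuM_AQ
import Cfsg.Agent.Helper61.PsuM_E3K
import Cfsg.Agent.Helper61.PsuM_EIDX2
import Cfsg.Agent.Helper33.PsuM_AI
import Cfsg.Agent.Helper33.PsuM_AT
import Cfsg.Agent.Helper55.PsuM_ANORM
import Cfsg.Agent.Helper47.PsuM_E1b
import Cfsg.Agent.Helper47.PsuM_EUNIV
import Cfsg.Agent.Helper66.PsuM_EPERF
import Cfsg.Agent.Helper66.PsuM_EXL
import Cfsg.Agent.Helper90.PsuM_EW1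
import Cfsg.Agent.Helper90.PsuM_EW2
import Cfsg.Agent.Helper30.PsuM_PCRIT
import Cfsg.Agent.Helper31.PsuM_KILL
import Cfsg.Agent.Helper89.PsuM_SEC
import Cfsg.Agent.Helper59.PsuM_ASM
import Cfsg.Agent.Helper59.PsuM_CPLG
import Cfsg.Agent.Helper65.PsuM_INV
import Cfsg.Agent.Helper10.PsuM_NRM
import Cfsg.Agent.Helper90.PsuM_EIDX1
import Cfsg.Agent.Helper73.PsuM_E1a

/-!
# S2089 block I-even: assembly of the `p`-part for `SU_{2m}(q)`
-/

set_option autoImplicit false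

namespace Cfsg.Agent.Helper43.PsuM.Ev

open Matrix
open scoped commutatorElement
open Cfsg.Agent.Helper96.StLift Cfsg.Agent.Helper43.PsuM

universe u

variable {K : Type u} [Field K] [Fintype K] {q : ℕ} {σ : K →+* K} {m : ℕ}

theorem sigma_invol (hK : Fintype.card K = q ^ 2) (hσq : ∀ x, σ x = x ^ q) : ∀ x, σ (σ x) = x := by
  intro x
  rw [hσq, hσq, ← pow_mul, ← sq, ← hK, FiniteField.pow_card]

/-- conjugation by `g` maps `⁅M, N⁆` into itself if it does so for `M` and `N` -/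
theorem conj_mem_commutator {Γ : Type*} [Group Γ] (M N : Subgroup Γ) (g : Γ)
    (hM : ∀ x ∈ M, g * x * g⁻¹ ∈ M) (hN : ∀ x ∈ N, g * x * g⁻¹ ∈ N) :
    ∀ c ∈ ⁅M, N⁆, g * c * g⁻¹ ∈ ⁅M, N⁆ := by
  intro c hcm
  have h1 : (⁅M, N⁆).map (MulAut.conj g).toMonoidHom ≤ ⁅M, N⁆ := by
    rw [Subgroup.map_commutator]
    apply Subgroup.commutator_mono
    · rintro _ ⟨x, hx, rfl⟩
      exact hM x hx
    · rintro _ ⟨x, hx, rfl⟩
      exact hN x hx
  exact h1 ⟨c, hcm, rfl⟩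

section ext

variable {Γ : Type u} [Group Γ] [Finite Γ] (τ : Γ →* SUe m σ) (hτ : Function.Surjective τ)
  (hc : τ.ker ≤ Subgroup.center Γ)

include hτ hc

theorem xE_mem_Ssub (i j : Fin m) (a : K) : xE σ i j a ∈ Ssub m σ := by
  unfold xE
  split_ifs with h
  · exact Subgroup.subset_closure ⟨_, rfl⟩
  · exact Subgroup.one_mem _

omit [Fintype K] [Finite Γ] hτ hc in
theorem comap_conj_mem (X N : Subgroup (SUe m σ))
    (hN : ∀ t ∈ N, ∀ x ∈ X, t * x * t⁻¹ ∈ X) (g : Γ) (hg : τ g ∈ N) :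
    ∀ x ∈ X.comap τ, g * x * g⁻¹ ∈ X.comap τ := by
  intro x hx
  rw [Subgroup.mem_comap, map_mul, map_mul, map_inv]
  exact hN _ hg _ hx

/-- the complement to the kernel in the preimage of `Qsub`, case `q ≥ 3` -/
theorem exists_complement (hK : Fintype.card K = q ^ 2) (hσq : ∀ x, σ x = x ^ q) (p : ℕ)
    [Fact p.Prime] [CharP K p] (hm : 2 ≤ m) (hq : 3 ≤ q) (h23 : ¬ (m = 2 ∧ q = 3))
    (hs4 : 4 ≤ q → ∃ s : K, s ≠ 0 ∧ σ s = s ∧ s * s ≠ 1)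
    (hker : Nat.card τ.ker = p) :
    ∃ C : Subgroup Γ, C ≤ (Qsub m σ).comap τ ∧ C ⊓ τ.ker = ⊥ ∧ C.map τ = Qsub m σ ∧
      (∀ g : Γ, τ g ∈ Tsub m σ → ∀ c ∈ C, g * c * g⁻¹ ∈ C) ∧
      (∀ g : Γ, τ g ∈ USsub m σ → ∀ c ∈ C, g * c * g⁻¹ ∈ C) := by
  have hσ := sigma_invol hK hσq
  have hs : 3 ≤ m ∨ ∃ s : K, s ≠ 0 ∧ σ s = s ∧ s * s ≠ 1 := by
    by_cases h3 : 3 ≤ m
    · exact Or.inl h3
    · refine Or.inr (hs4 ?_)
      have hm2 : m = 2 := by omega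
      by_contra hcon
      exact h23 ⟨hm2, by omega⟩
  have hQ : ∀ x ∈ Qsub m σ, ∀ y ∈ Qsub m σ, lc hτ x y = 1 := fun x hx y hy =>
    Cfsg.Agent.Helper47.PsuM.lc_Qsub_eq_one τ hτ hc hK hσq hm
      (fun i c hc' y hy => Cfsg.Agent.Helper73.PsuM.lc_zE_eq_one τ hτ hc hK hσq hm hs i hc' y hy) x y hx hy
  set M : Subgroup Γ := (Qsub m σ).comap τ with hMdef
  set Th : Subgroup Γ := (Tsub m σ).comap τ with hThdef
  have hMmap : M.map τ = Qsub m σ := Subgroup.map_comap_eq_self_of_surjective hτ _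
  have hThmap : Th.map τ = Tsub m σ := Subgroup.map_comap_eq_self_of_surjective hτ _
  have hAM : τ.ker ≤ M := fun x hx => by
    rw [hMdef, Subgroup.mem_comap, MonoidHom.mem_ker.mp hx]
    exact Subgroup.one_mem _
  have hMM : ⁅M, M⁆ ≤ (⊥ : Subgroup Γ) := by
    rw [Subgroup.commutator_le]
    intro x hx y hy
    rw [Subgroup.mem_bot, lc_eq hτ hc x y]
    exact hQ _ hx _ hy
  have hTM : ∀ g : Γ, τ g ∈ Tsub m σ → ∀ x ∈ M, g * x * g⁻¹ ∈ M := fun g hg =>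
    comap_conj_mem τ (Qsub m σ) (Tsub m σ)
      (fun t ht x hx => Cfsg.Agent.Helper55.PsuM.Tsub_normalizes_Qsub hσ t x ht hx) g hg
  have hcop : (Nat.card (Tsub m σ)).Coprime (Nat.card τ.ker) := by
    rw [hker]
    exact Cfsg.Agent.Helper33.PsuM.card_Tsub_coprime hσ p
  have hC : ((⊥ : Subgroup Γ) ⊔ ⁅M, Th⁆) ⊓ τ.ker = ⊥ :=
    Cfsg.Agent.Helper59.PsuM.comm_comap_inf_ker τ hτ hc M ⊥ (Tsub m σ) bot_le hMM hTM
      (fun g _ x hx => by
        rw [Subgroup.mem_bot] at hx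
        rw [hx, mul_one, mul_inv_cancel]
        exact Subgroup.one_mem _) hcop (bot_inf_eq _)
  -- an index pair
  have h0 : 0 < m := by omega
  have h1 : 1 < m := by omega
  have h01 : (⟨0, h0⟩ : Fin m) ≠ ⟨1, h1⟩ := by
    intro h
    have := congrArg Fin.val h
    simp at this
  -- the generation statement for each pair
  have hgen : ∀ i j : Fin m, i ≠ j → ∃ Y : Subgroup (SUe m σ), Y ≤ Qsub m σ ∧
      (∀ t ∈ Tsub m σ, ∀ y ∈ Y, t * y * t⁻¹ ∈ Y) ∧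
      (∀ a : K, ∀ y ∈ Y, lc hτ (xE σ i j a) y = 1) ∧
      Qsub m σ ≤ ⁅Qsub m σ, Tij σ i j⁆ ⊔ ⁅Y, Tsub m σ⁆ := by
    intro i j hij
    by_cases h33 : m = 3 ∧ q = 3
    · -- a third index
      have hex : ∃ c : Fin m, c ≠ i ∧ c ≠ j := by
        obtain ⟨hm3, _⟩ := h33
        subst hm3
        revert i j
        decide
      obtain ⟨c, hci, hcj⟩ := hex
      refine ⟨Xl σ c, Cfsg.Agent.Helper66.PsuM.Xl_le_Qsub c, fun t ht y hy => Cfsg.Agent.Helper66.PsuM.Tsub_normalizes_Xl hσ c t y ht hy,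
        fun a y hy => Cfsg.Agent.Helper61.PsuM.lc_xE_Xl τ hτ hc hK hσq i j c hij hci hcj a y hy,
        Cfsg.Agent.Helper90.PsuM.Qsub_le_comm_Tij_33 hK hσq h33.1 h33.2 i j c hij hci hcj⟩
    · refine ⟨⊥, bot_le, fun t _ y hy => ?_, fun a y hy => ?_, ?_⟩
      · rw [Subgroup.mem_bot] at hy
        rw [hy, mul_one, mul_inv_cancel]
        exact Subgroup.one_mem _
      · rw [Subgroup.mem_bot] at hy
        rw [hy, lc_one_right hτ hc]
      · have := Cfsg.Agent.Helper90.PsuM.Qsub_le_comm_Tij hK hσq hm hq h23 h33 i j hij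
        exact le_trans this le_sup_left
  have hcomm_le : ⁅Qsub m σ, Tsub m σ⁆ ≤ Qsub m σ := by
    rw [Subgroup.commutator_le]
    intro x hx t ht
    have h2 : t * x⁻¹ * t⁻¹ ∈ Qsub m σ :=
      Cfsg.Agent.Helper55.PsuM.Tsub_normalizes_Qsub hσ t x⁻¹ ht (Subgroup.inv_mem _ hx)
    have h3 : ⁅x, t⁆ = x * (t * x⁻¹ * t⁻¹) := by
      rw [commutatorElement_def]; group
    rw [h3]
    exact Subgroup.mul_mem _ hx h2
  have hCmap : ((⊥ : Subgroup Γ) ⊔ ⁅M, Th⁆).map τ = Qsub m σ := by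
    rw [bot_sup_eq, Subgroup.map_commutator, hMmap, hThmap]
    apply le_antisymm hcomm_le
    obtain ⟨Y, hYQ, _, _, hle⟩ := hgen _ _ h01
    refine le_trans hle (sup_le ?_ ?_)
    · exact Subgroup.commutator_mono le_rfl inf_le_left
    · exact Subgroup.commutator_mono hYQ le_rfl
  have hCleM : (⊥ : Subgroup Γ) ⊔ ⁅M, Th⁆ ≤ M := by
    rw [bot_sup_eq, Subgroup.commutator_le]
    intro x hx t ht
    have h2 : t * x⁻¹ * t⁻¹ ∈ M := hTM t ht x⁻¹ (Subgroup.inv_mem _ hx)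
    have h3 : ⁅x, t⁆ = x * (t * x⁻¹ * t⁻¹) := by
      rw [commutatorElement_def]; group
    rw [h3]
    exact Subgroup.mul_mem _ hx h2
  refine ⟨⊥ ⊔ ⁅M, Th⁆, hCleM, hC, hCmap, ?_, ?_⟩
  · -- invariance under the torus
    intro g hg c hcC
    rw [bot_sup_eq] at hcC ⊢
    exact conj_mem_commutator M Th g (hTM g hg)
      (comap_conj_mem τ (Tsub m σ) (Tsub m σ)
        (fun t ht x hx => Subgroup.mul_mem _ (Subgroup.mul_mem _ ht hx) (Subgroup.inv_mem _ ht))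
        g hg) c hcC
  · -- invariance under the unipotent radical of the Levi subgroup
    apply Cfsg.Agent.Helper10.PsuM.conj_mem_of_closure τ hτ hc
    rintro s ⟨i, j, hij, a, rfl⟩
    obtain ⟨g, hg⟩ := hτ (xE σ i j a)
    refine ⟨g, hg, ?_⟩
    obtain ⟨Y, hYQ, hYT, hYlc, hle⟩ := hgen i j (ne_of_lt hij)
    apply Cfsg.Agent.Helper65.PsuM.conj_mem_comm_comap τ hτ hc M ⊥ (Tsub m σ) (Tij σ i j) Y bot_le hAM inf_le_left hTM hC g
    · -- `g` normalises `M`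
      intro x hx
      rw [hMdef, Subgroup.mem_comap, map_mul, map_mul, map_inv, hg]
      exact Cfsg.Agent.Helper55.PsuM.Ssub_normalizes_Qsub hσ _ _ (xE_mem_Ssub τ hτ hc i j a) hx
    · intro x hx
      rw [Subgroup.mem_bot] at hx
      rw [hx, mul_one, mul_inv_cancel]
      exact Subgroup.one_mem _
    · intro h hh
      rw [hg]
      have h2 : h ∈ Subgroup.centralizer (Set.range (xE σ i j)) := hh.2
      exact Subgroup.mem_centralizer_iff.mp h2 _ ⟨a, rfl⟩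
    · rw [hMmap]; exact hYQ
    · exact hYT
    · intro y hy
      exact Cfsg.Agent.Helper31.PsuM.commute_of_lc_eq_one τ hτ hc (hYlc a _ hy) g y hg rfl
    · rw [hMmap, Subgroup.map_bot, bot_sup_eq]
      exact hle

/-- assembling the complement of the kernel in the preimage of `Usub` from a complement in the
preimage of `Qsub` and the canonical lift of the Levi subgroup -/
theorem exists_V (hK : Fintype.card K = q ^ 2) (hσq : ∀ x, σ x = x ^ q) (hm : 2 ≤ m)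
    (h2 : m = 2 → 4 ≤ q) (h3 : m = 3 → q ≠ 2)
    (hCex : ∃ C : Subgroup Γ, C ≤ (Qsub m σ).comap τ ∧ C ⊓ τ.ker = ⊥ ∧ C.map τ = Qsub m σ ∧
      (∀ g : Γ, τ g ∈ Tsub m σ → ∀ c ∈ C, g * c * g⁻¹ ∈ C) ∧
      (∀ g : Γ, τ g ∈ USsub m σ → ∀ c ∈ C, g * c * g⁻¹ ∈ C)) :
    ∃ V : Subgroup Γ, V ⊓ τ.ker = ⊥ ∧ V.map τ = Usub m σ ∧
      ∀ g : Γ, τ g ∈ Tsub m σ → ∀ v ∈ V, g * v * g⁻¹ ∈ V := by
  have hσ := sigma_invol hK hσq
  have hq2 : 2 ≤ q := by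
    by_contra hcon
    have hq1 : q ≤ 1 := by omega
    have h1 : 1 < Fintype.card K := Fintype.one_lt_card
    have : q ^ 2 ≤ 1 := by
      calc q ^ 2 ≤ 1 ^ 2 := Nat.pow_le_pow_left hq1 2
        _ = 1 := by norm_num
    omega
  obtain ⟨C, hCle, hC, hCmap, hCT, hCU⟩ := hCex
  obtain ⟨hS1, hS2⟩ := Cfsg.Agent.Helper89.PsuM.exists_canonical_lift τ hτ hc (Ssub m σ) (Cfsg.Agent.Helper66.PsuM.Ssub_perfect hK hσ hm hq2)
    (Cfsg.Agent.Helper47.PsuM.huniv_Ssub hK hσ hm h2 h3)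
  set Sh : Subgroup Γ := (Ssub m σ).comap τ with hShdef
  set W : Subgroup Γ := ⁅Sh, Sh⁆ ⊓ (USsub m σ).comap τ with hWdef
  have hWker : W ⊓ τ.ker = ⊥ := by
    rw [eq_bot_iff, ← hS1]
    exact inf_le_inf_right _ inf_le_left
  have hWmap : W.map τ = USsub m σ := by
    apply le_antisymm
    · rintro _ ⟨w, hw, rfl⟩
      exact hw.2
    · intro u hu
      have hu' : u ∈ (⁅Sh, Sh⁆).map τ := by
        rw [hS2]
        exact Cfsg.Agent.Helper33.PsuM.USsub_le_Ssub hσ hu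
      obtain ⟨w, hw, rfl⟩ := hu'
      exact ⟨w, ⟨hw, hu⟩, rfl⟩
  have hWC : ∀ w ∈ W, ∀ c ∈ C, w * c * w⁻¹ ∈ C := fun w hw c hcC => hCU w hw.2 c hcC
  have hCW : C.map τ ⊓ W.map τ = ⊥ := by
    rw [hCmap, hWmap, eq_bot_iff, ← Cfsg.Agent.Helper55.PsuM.Qsub_inf_Ssub hσ]
    exact inf_le_inf_left _ (Cfsg.Agent.Helper33.PsuM.USsub_le_Ssub hσ)
  refine ⟨C ⊔ W, Cfsg.Agent.Helper59.PsuM.sup_inf_ker_eq_bot τ C W hWC hC hWker hCW, ?_, ?_⟩
  · rw [Subgroup.map_sup, hCmap, hWmap]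
    rfl
  · intro g hg v hv
    have hgS : ∀ x ∈ Sh, g * x * g⁻¹ ∈ Sh :=
      comap_conj_mem τ (Ssub m σ) (Tsub m σ)
        (fun t ht x hx => Cfsg.Agent.Helper55.PsuM.Tsub_normalizes_Ssub hσ t x ht hx) g hg
    have hgU : ∀ x ∈ (USsub m σ).comap τ, g * x * g⁻¹ ∈ (USsub m σ).comap τ :=
      comap_conj_mem τ (USsub m σ) (Tsub m σ)
        (fun t ht x hx => Cfsg.Agent.Helper55.PsuM.Tsub_normalizes_USsub hσ t x ht hx) g hg
    have hgW : ∀ w ∈ W, g * w * g⁻¹ ∈ W := fun w hw =>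
      ⟨conj_mem_commutator Sh Sh g hgS hgS w hw.1, hgU w hw.2⟩
    have h1 : (C ⊔ W).map (MulAut.conj g).toMonoidHom ≤ C ⊔ W := by
      rw [Subgroup.map_sup]
      apply sup_le_sup
      · rintro _ ⟨x, hx, rfl⟩
        exact hCT g hg x hx
      · rintro _ ⟨x, hx, rfl⟩
        exact hgW x hx
    exact h1 ⟨v, hv, rfl⟩

end ext

theorem Tsub_normalizes_Usub (hσ : ∀ x, σ (σ x) = x) (t x : SUe m σ) (ht : t ∈ Tsub m σ)
    (hx : x ∈ Usub m σ) : t * x * t⁻¹ ∈ Usub m σ := by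
  have h1 : (Usub m σ).map (MulAut.conj t).toMonoidHom ≤ Usub m σ := by
    unfold Usub
    rw [Subgroup.map_sup]
    apply sup_le_sup
    · rintro _ ⟨y, hy, rfl⟩
      exact Cfsg.Agent.Helper55.PsuM.Tsub_normalizes_Qsub hσ t y ht hy
    · rintro _ ⟨y, hy, rfl⟩
      exact Cfsg.Agent.Helper55.PsuM.Tsub_normalizes_USsub hσ t y ht hy
  exact h1 ⟨x, hx, rfl⟩

/-- **the `p`-part for `SU_{2m}(q)`**, from the existence of the complement in the preimage of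
`Qsub` -/
theorem noStemP_of_complement (hK : Fintype.card K = q ^ 2) (hσq : ∀ x, σ x = x ^ q) (p : ℕ)
    [Fact p.Prime] [CharP K p] (hm : 2 ≤ m) (h2 : m = 2 → 4 ≤ q) (h3 : m = 3 → q ≠ 2)
    (hCex : ∀ (Γ : Type u) [Group Γ] [Finite Γ] (τ : Γ →* SUe m σ), Function.Surjective τ →
      τ.ker ≤ Subgroup.center Γ → Nat.card τ.ker = p →
      ∃ C : Subgroup Γ, C ≤ (Qsub m σ).comap τ ∧ C ⊓ τ.ker = ⊥ ∧ C.map τ = Qsub m σ ∧
      (∀ g : Γ, τ g ∈ Tsub m σ → ∀ c ∈ C, g * c * g⁻¹ ∈ C) ∧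
      (∀ g : Γ, τ g ∈ USsub m σ → ∀ c ∈ C, g * c * g⁻¹ ∈ C)) :
    NoStemP (SUe m σ) p := by
  have hσ := sigma_invol hK hσq
  have hcop := Cfsg.Agent.Helper33.PsuM.card_Tsub_coprime (m := m) hσ p
  apply Cfsg.Agent.Helper30.PsuM.noStemP_of_borel_complement p (Usub m σ) (Tsub m σ)
    (fun a ha b hb => Cfsg.Agent.Helper33.PsuM.Tsub_comm a b ha hb)
  · intro hdvd
    have h1 : p ∣ Nat.gcd (Nat.card (Tsub m σ)) p := Nat.dvd_gcd hdvd dvd_rfl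
    rw [Nat.Coprime] at hcop
    rw [hcop] at h1
    exact (Fact.out : p.Prime).one_lt.ne' (Nat.dvd_one.mp h1)
  · exact fun t ht x hx => Tsub_normalizes_Usub hσ t x ht hx
  · exact Cfsg.Agent.Helper61.PsuM.not_dvd_index hK hσq p (by omega) (Cfsg.Agent.Helper90.PsuM.pow_dvd_card_Usub hK hσq)
  · intro Γ _ _ τ hstem hker
    obtain ⟨hτ, hc, _⟩ := hstem
    exact exists_V τ hτ hc hK hσq hm h2 h3 (hCex Γ τ hτ hc hker)

/-- **the `p`-part for `SU_{2m}(q)`, `q ≥ 3`** -/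
theorem noStemP_even (hK : Fintype.card K = q ^ 2) (hσq : ∀ x, σ x = x ^ q) (p : ℕ)
    [Fact p.Prime] [CharP K p] (hm : 2 ≤ m) (hq : 3 ≤ q) (h23 : ¬ (m = 2 ∧ q = 3))
    (hs4 : 4 ≤ q → ∃ s : K, s ≠ 0 ∧ σ s = s ∧ s * s ≠ 1) :
    NoStemP (SUe m σ) p := by
  apply noStemP_of_complement hK hσq p hm
  · intro hm2
    by_contra hcon
    exact h23 ⟨hm2, by omega⟩
  · intro _
    omega
  · intro Γ _ _ τ hτ hc hker
    exact exists_complement τ hτ hc hK hσq p hm hq h23 hs4 hker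

end Cfsg.Agent.Helper43.PsuM.Ev
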