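import Cfsg.Agent.Helper43.PsuM.EvFinal
import Cfsg.Agent.Helper5.PsuE2.Main
import Cfsg.Agent.Helper29.PsuM_TR
import Cfsg.Agent.Helper31.PsuM_RED
import Cfsg.Agent.Helper47.PsuM_GL1
import Cfsg.Agent.Helper47.PsuM_EF1
import Cfsg.Agent.Helper5.PsuM_AISO
import Cfsg.Agent.Helper10.SuBNSIG
import Cfsg.Agent.Helper35.SuBNZETA
import Cfsg.Agent.Helper35.SuBNLAM
import Cfsg.Agent.Helper55.SuBNTR1
import Cfsg.Agent.Helper55.SuBNTR2
import Cfsg.Agent.Helper13.UIwa3
import Cfsg.Agent.Helper31.StLG34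
import Cfsg.Agent.S0279
import Cfsg.Agent.Helper96.UceCover

/-!
# S2089: the `p`-part in even dimension for the antidiagonal model `UG (m + m) σ`
-/

set_option autoImplicit false

namespace Cfsg.Agent.Helper43.PsuM.Glue

open Cfsg Cfsg.Agent.Helper43.PsuM Cfsg.Agent.Helper43.PsuM.Ev
open Cfsg.Agent.Helper5.SuBN (UG)

universe u

variable {K : Type u} [Field K] [Fintype K] {q : ℕ} {σ : K →+* K}

/-- the two models of the special unitary group -/
theorem nonempty_UG_mulEquiv_SU (hK : Fintype.card K = q ^ 2) (hσq : ∀ x, σ x = x ^ q) (n : ℕ) :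
    Nonempty (UG n σ ≃* ↥(Cfsg.SU n K q)) := by
  obtain ⟨ζ, hζ⟩ := Cfsg.Agent.Helper35.SuBNZETA.exists_zeta q hK
  obtain ⟨l, hl⟩ := Cfsg.Agent.Helper35.SuBNLAM.exists_lambda q hK
  rw [← hσq] at hζ hl
  obtain ⟨C, hC⟩ := Cfsg.Agent.Helper55.SuBNTR1.exists_basis_change (σ := σ) ζ l hζ hl n
  exact Cfsg.Agent.Helper55.SuBNTR2.nonempty_mulEquiv_SU q hσq C hC

theorem commutator_eq_top_congr {G H : Type*} [Group G] [Group H] (e : G ≃* H)
    (h : commutator G = ⊤) : commutator H = ⊤ := by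
  rw [eq_top_iff]
  intro x _
  have hx : e.symm x ∈ commutator G := by rw [h]; trivial
  have h2 : (commutator G).map e.toMonoidHom ≤ commutator H := by
    rw [commutator_def, Subgroup.map_commutator, commutator_def]
    exact Subgroup.commutator_mono le_top le_top
  have h3 := h2 ⟨e.symm x, hx, rfl⟩
  simpa using h3

theorem two_le_q (hK : Fintype.card K = q ^ 2) : 2 ≤ q := by
  by_contra hcon
  have hq1 : q ≤ 1 := by omega
  have h1 : 1 < Fintype.card K := Fintype.one_lt_card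
  have : q ^ 2 ≤ 1 := by
    calc q ^ 2 ≤ 1 ^ 2 := Nat.pow_le_pow_left hq1 2
      _ = 1 := by norm_num
  omega

/-- the `p`-part in even dimension -/
theorem noStemP_UG_even (hK : Fintype.card K = q ^ 2) (hσq : ∀ x, σ x = x ^ q) (p : ℕ)
    [Fact p.Prime] [CharP K p] (m : ℕ) (hm : 2 ≤ m)
    (hgood : ¬ (m = 2 ∧ q = 2) ∧ ¬ (m = 2 ∧ q = 3) ∧ ¬ (m = 3 ∧ q = 2)) :
    NoStemP (UG (m + m) σ) p := by
  have hσ := sigma_invol hK hσq
  have hq2 := two_le_q hK
  obtain ⟨e⟩ := Cfsg.Agent.Helper5.PsuM.nonempty_mulEquiv_UG (m := m) hσ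
  apply Cfsg.Agent.Helper29.PsuM.noStemP_congr e p
  by_cases hq3 : 3 ≤ q
  · exact noStemP_even hK hσq p hm hq3 hgood.2.1
      (fun h4 => Cfsg.Agent.Helper47.PsuM.exists_fixed_sq_ne_one hK σ hσq h4)
  · have hq : q = 2 := by omega
    subst hq
    have hm4 : 4 ≤ m := by
      by_contra hcon
      have : m = 2 ∨ m = 3 := by omega
      rcases this with h | h
      · exact hgood.1 ⟨h, rfl⟩
      · exact hgood.2.2 ⟨h, rfl⟩
    have hp2 : p = 2 := by
      have h1 : (2 : K) ^ 2 = 0 ∨ True := Or.inr trivial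
      -- the characteristic divides the order of the field
      have hdvd : p ∣ Fintype.card K := by
        have := (CharP.cast_eq_zero_iff K p (Fintype.card K)).mp (Nat.cast_card_eq_zero K)
        exact this
      rw [hK] at hdvd
      have h2 : p ∣ 2 := (Fact.out : p.Prime).dvd_of_dvd_pow hdvd
      exact (Nat.prime_dvd_prime_iff_eq Fact.out Nat.prime_two).mp h2
    subst hp2
    apply noStemP_of_complement hK hσq 2 hm (by omega) (by omega)
    intro Γ _ _ τ hτ hc hker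
    apply Cfsg.Agent.Helper5.PsuE2.exists_complement_q2 hK hσq hm4 τ hτ hc hker
    intro x hx y hy
    exact Cfsg.Agent.Helper47.PsuM.lc_Qsub_eq_one τ hτ hc hK hσq hm
      (fun i c hc' y hy => Cfsg.Agent.Helper73.PsuM.lc_zE_eq_one τ hτ hc hK hσq hm
        (Or.inl (by omega)) i hc' y hy) x y hx hy

end Cfsg.Agent.Helper43.PsuM.Glue
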